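import Cfsg.Agent.Lib.ThreePrime.Sz.Model
import Cfsg.Agent.Lib.Lie.Suzuki.Tori
import Cfsg.Agent.S0325
import Cfsg.Prelude.Def_Sz
import Cfsg.Prelude.Def_Transfer

/-!
Owner: helper10. Facts about an abstract group `X` with `Cfsg.Lie.IsoSuzuki X`, for the simple groups of
order prime to three. Throughout `j` is an involution, `centralizer {j}` is the Sylow 2-subgroup containing it
and `Z j` is its centre.
-/

set_option autoImplicit false
set_option linter.style.haveILetI false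

namespace CfsgLib.ThreePrime.Sz

open Subgroup CfsgLib.Lie.Suzuki

universe u

variable {X : Type u} [Group X]

local notation "C[" j "]" => Subgroup.centralizer ({j} : Set X)

/-- The centre of the Sylow 2-subgroup containing the involution `j`. -/
abbrev Z (j : X) : Subgroup X := Subgroup.centralizer (Subgroup.centralizer ({j} : Set X) : Set X)

theorem finite (h : Cfsg.Lie.IsoSuzuki X) : Finite X := by
  obtain ⟨F, i1, i2, m, hm, hF, ⟨e⟩⟩ := h
  exact Finite.of_equiv _ e.symm.toEquiv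

/-- The model, with a prescribed involution. -/
theorem exists_model (h : Cfsg.Lie.IsoSuzuki X) {j : X} (hj : orderOf j = 2) :
    ∃ (F : Type) (_ : Field F) (_ : Fintype F) (_ : CharP F 2) (m : ℕ) (_ : 1 ≤ m)
      (hF : Fintype.card F = 2 ^ (2 * m + 1)) (e : Cfsg.Sz F m ≃* X), e (SzModel.j₀ hF) = j := by
  obtain ⟨F, i1, i2, m, hm, hF, ⟨e⟩⟩ := h
  haveI := charTwo_of_card (m := m) hF
  set f : Cfsg.Sz F m ≃* X := (equivLie hm hF).trans e.symm
  have hj2 : orderOf (f.symm j) = 2 := by rw [f.symm.orderOf_eq, hj]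
  obtain ⟨g, hg⟩ := SzModel.conj_j₀ hF hm (z := f.symm j)
    (by rw [← pow_two, ← hj2, pow_orderOf_eq_one])
    (fun e => by rw [e, orderOf_one] at hj2; omega)
  refine ⟨F, i1, i2, this, m, hm, hF, (MulAut.conj g).trans f, ?_⟩
  show f (g * SzModel.j₀ hF * g⁻¹) = j
  rw [hg, f.apply_symm_apply]

section Transport

variable {F : Type} [Field F] [Fintype F] [CharP F 2] {m : ℕ} (hF : Fintype.card F = 2 ^ (2 * m + 1))
  (e : Cfsg.Sz F m ≃* X)

theorem cent_map (hm : 1 ≤ m) : C[e (SzModel.j₀ hF)] = (unip hF).map e.toMonoidHom := by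
  ext x
  rw [Subgroup.mem_map_equiv, ← SzModel.cent_j₀ hF hm, mem_centralizer_singleton_iff,
    mem_centralizer_singleton_iff]
  obtain ⟨y, rfl⟩ := e.surjective x
  rw [e.symm_apply_apply, ← map_mul, ← map_mul, e.injective.eq_iff]

theorem mem_cent (hm : 1 ≤ m) (y : Cfsg.Sz F m) : e y ∈ C[e (SzModel.j₀ hF)] ↔ y ∈ unip hF := by
  rw [cent_map hF e hm, Subgroup.mem_map_equiv, e.symm_apply_apply]

theorem Z_map (hm : 1 ≤ m) :
    Z (e (SzModel.j₀ hF)) = (centralizer (unip hF : Set (Cfsg.Sz F m))).map e.toMonoidHom := by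
  ext x
  obtain ⟨y, rfl⟩ := e.surjective x
  rw [Subgroup.mem_map_equiv, e.symm_apply_apply, mem_centralizer_iff, mem_centralizer_iff]
  refine ⟨fun h v hv => e.injective ?_, fun h v hv => ?_⟩
  · rw [map_mul, map_mul]
    exact h _ ((mem_cent hF e hm v).2 hv)
  · obtain ⟨v, rfl⟩ := e.surjective v
    rw [← map_mul, ← map_mul, h v ((mem_cent hF e hm v).1 hv)]

theorem mem_Z (hm : 1 ≤ m) (y : Cfsg.Sz F m) :
    e y ∈ Z (e (SzModel.j₀ hF)) ↔ ∃ b, y = uS hF 0 b := by
  rw [Z_map hF e hm, Subgroup.mem_map_equiv, e.symm_apply_apply, SzModel.cent_unip hF hm]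

theorem mem_normalizer (hm : 1 ≤ m) (y : Cfsg.Sz F m) :
    e y ∈ normalizer (C[e (SzModel.j₀ hF)] : Set X) ↔ y ∈ CfsgLib.Lie.Suzuki.borel F m := by
  rw [← normalizer_unip hF hm, mem_normalizer_iff, mem_normalizer_iff]
  refine ⟨fun h v => ?_, fun h v => ?_⟩
  · have := h (e v)
    rwa [← map_mul, ← map_inv, ← map_mul, mem_cent hF e hm, mem_cent hF e hm] at this
  · obtain ⟨v, rfl⟩ := e.surjective v
    rw [← map_mul, ← map_inv, ← map_mul, mem_cent hF e hm, mem_cent hF e hm]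
    exact h v

end Transport

theorem two_le_of_order {q : ℕ} (h : 0 < q ^ 2 * (q ^ 2 + 1) * (q - 1)) : 2 ≤ q := by
  rcases q with _ | _ | q <;> simp_all

theorem order_injective {a b : ℕ} (ha : 2 ≤ a) (hb : 2 ≤ b)
    (h : a ^ 2 * (a ^ 2 + 1) * (a - 1) = b ^ 2 * (b ^ 2 + 1) * (b - 1)) : a = b := by
  have key : ∀ {a b : ℕ}, 2 ≤ a → a < b →
      a ^ 2 * (a ^ 2 + 1) * (a - 1) < b ^ 2 * (b ^ 2 + 1) * (b - 1) := by
    intro a b ha hab
    have h1 : a ^ 2 ≤ b ^ 2 := Nat.pow_le_pow_left hab.le 2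
    calc a ^ 2 * (a ^ 2 + 1) * (a - 1) ≤ b ^ 2 * (b ^ 2 + 1) * (a - 1) :=
          Nat.mul_le_mul_right _ (Nat.mul_le_mul h1 (by omega))
      _ < b ^ 2 * (b ^ 2 + 1) * (b - 1) :=
          Nat.mul_lt_mul_of_pos_left (by omega) (Nat.mul_pos (Nat.pow_pos (by omega)) (by omega))
  rcases lt_trichotomy a b with h1 | h1 | h1
  · exact absurd h (key ha h1).ne
  · exact h1
  · exact absurd h.symm (key hb h1).ne

/-- The parameter is determined by the order. -/
theorem q_eq {F : Type} [Field F] [Fintype F] [CharP F 2] {m : ℕ} (hm : 1 ≤ m)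
    (hF : Fintype.card F = 2 ^ (2 * m + 1)) (e : Cfsg.Sz F m ≃* X) {q : ℕ}
    (hq : Nat.card X = q ^ 2 * (q ^ 2 + 1) * (q - 1)) : q = Fintype.card F := by
  haveI : Finite X := Finite.of_equiv _ e.toEquiv
  have h0 : Nat.card X = Fintype.card F ^ 2 * (Fintype.card F ^ 2 + 1) * (Fintype.card F - 1) := by
    rw [← Nat.card_congr e.toEquiv, nat_card hF hm]
  exact order_injective (two_le_of_order (hq ▸ Nat.card_pos)) (two_le_of_order (h0 ▸ Nat.card_pos))
    (hq.symm.trans h0)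

theorem isSimple (h : Cfsg.Lie.IsoSuzuki X) : IsSimpleGroup X := by
  obtain ⟨F, i1, i2, m, hm, hF, ⟨e⟩⟩ := h
  haveI := charTwo_of_card (m := m) hF
  haveI := Cfsg.Agent.S0325.result (F := F) hm hF
  let f : Cfsg.Sz F m ≃* X := (equivLie hm hF).trans e.symm
  haveI : Nontrivial X := f.symm.toEquiv.nontrivial
  exact IsSimpleGroup.isSimpleGroup_of_surjective f.toMonoidHom f.surjective

theorem exists_involution (h : Cfsg.Lie.IsoSuzuki X) : ∃ j : X, orderOf j = 2 := by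
  obtain ⟨F, i1, i2, m, hm, hF, ⟨e⟩⟩ := h
  haveI := charTwo_of_card (m := m) hF
  refine ⟨(equivLie hm hF).trans e.symm (SzModel.j₀ hF), ?_⟩
  rw [MulEquiv.orderOf_eq]
  exact orderOf_eq_prime (by rw [pow_two]; exact SzModel.uS_zero_sq hF 1) (SzModel.j₀_ne hF)

theorem exists_q (h : Cfsg.Lie.IsoSuzuki X) : ∃ q n : ℕ, Odd n ∧ 3 ≤ n ∧ q = 2 ^ n ∧
    Nat.card X = q ^ 2 * (q ^ 2 + 1) * (q - 1) := by
  obtain ⟨j, hj⟩ := exists_involution h
  obtain ⟨F, _, _, _, m, hm, hF, e, -⟩ := exists_model h hj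
  exact ⟨_, 2 * m + 1, ⟨m, rfl⟩, by omega, hF, by rw [← Nat.card_congr e.toEquiv, nat_card hF hm]⟩

theorem not_three_dvd (h : Cfsg.Lie.IsoSuzuki X) : ¬ 3 ∣ Nat.card X := by
  obtain ⟨j, hj⟩ := exists_involution h
  obtain ⟨F, _, _, _, m, hm, hF, e, -⟩ := exists_model h hj
  rw [← Nat.card_congr e.toEquiv]
  exact CfsgLib.Lie.Suzuki.not_three_dvd hF hm

/-- Some element has order greater than `q`. -/
theorem exists_orderOf_gt (h : Cfsg.Lie.IsoSuzuki X) {q : ℕ}
    (hq : Nat.card X = q ^ 2 * (q ^ 2 + 1) * (q - 1)) : ∃ x : X, q < orderOf x := by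
  obtain ⟨j, hj⟩ := exists_involution h
  obtain ⟨F, _, _, _, m, hm, hF, e, -⟩ := exists_model h hj
  obtain ⟨x, hx⟩ := SzModel.exists_big hF hm
  exact ⟨e x, by rw [e.orderOf_eq, q_eq hm hF e hq]; exact hx⟩

variable (h : Cfsg.Lie.IsoSuzuki X) {q : ℕ} {i j : X}

include h

theorem cent_isPGroup (hj : orderOf j = 2) : IsPGroup 2 C[j] := by
  obtain ⟨F, _, _, _, m, hm, hF, e, rfl⟩ := exists_model h hj
  rw [cent_map hF e hm]
  exact (isPGroup_unip hF).map _

theorem card_cent (hj : orderOf j = 2) (hq : Nat.card X = q ^ 2 * (q ^ 2 + 1) * (q - 1)) :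
    Nat.card C[j] = q ^ 2 := by
  obtain ⟨F, _, _, _, m, hm, hF, e, rfl⟩ := exists_model h hj
  rw [cent_map hF e hm, card_map_of_injective e.injective, card_unip, q_eq hm hF e hq]

theorem card_Z (hj : orderOf j = 2) (hq : Nat.card X = q ^ 2 * (q ^ 2 + 1) * (q - 1)) :
    Nat.card (Z j) = q := by
  obtain ⟨F, _, _, _, m, hm, hF, e, rfl⟩ := exists_model h hj
  rw [Z_map hF e hm, card_map_of_injective e.injective, SzModel.card_cent_unip hF hm, q_eq hm hF e hq]

/-- The centre consists of the elements of square one of the Sylow subgroup. -/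
theorem mem_Z_iff (hj : orderOf j = 2) {x : X} : x ∈ Z j ↔ x ∈ C[j] ∧ x * x = 1 := by
  obtain ⟨F, _, _, _, m, hm, hF, e, rfl⟩ := exists_model h hj
  obtain ⟨y, rfl⟩ := e.surjective x
  rw [mem_Z hF e hm, mem_cent hF e hm, ← map_mul, map_eq_one_iff e e.injective]
  refine ⟨?_, ?_⟩
  · rintro ⟨b, rfl⟩
    exact ⟨uS_mem hF 0 b, SzModel.uS_zero_sq hF b⟩
  · rintro ⟨⟨a, b, rfl⟩, h2⟩
    rw [← pow_two, involution_uS_iff] at h2
    exact ⟨b, by rw [h2]⟩

theorem Z_le_cent (hj : orderOf j = 2) : Z j ≤ C[j] := fun _ hx => ((mem_Z_iff h hj).1 hx).1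

theorem self_mem_Z (hj : orderOf j = 2) : j ∈ Z j :=
  (mem_Z_iff h hj).2 ⟨mem_centralizer_singleton_iff.2 rfl, by rw [← pow_two, ← hj, pow_orderOf_eq_one]⟩

theorem Z_elementary (hj : orderOf j = 2) : Cfsg.IsElementaryAbelian 2 (Z j) :=
  ⟨⟨⟨fun a b => Subtype.ext (Subgroup.mem_centralizer_iff.1 b.2 _ (Z_le_cent h hj a.2))⟩⟩,
    fun a ha => by rw [pow_two]; exact ((mem_Z_iff h hj).1 ha).2⟩

omit h in
theorem mem_cent_of_commute (hc : i * j = j * i) : i ∈ C[j] := mem_centralizer_singleton_iff.2 hc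

/-- Involutions in one centre have the same centraliser. -/
theorem cent_eq_of_mem (hj : orderOf j = 2) (hi : orderOf i = 2) (hij : i ∈ Z j) : C[i] = C[j] := by
  haveI := finite h
  obtain ⟨q, -, -, -, -, hq⟩ := exists_q h
  refine (eq_of_le_of_card_ge (fun x hx => ?_) ?_).symm
  · exact mem_centralizer_singleton_iff.2 (mem_centralizer_iff.1 hij x hx)
  · rw [card_cent h hi hq, card_cent h hj hq]

theorem Z_eq_of_mem (hj : orderOf j = 2) (hi : orderOf i = 2) (hij : i ∈ Z j) : Z i = Z j := by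
  simp only [Z, cent_eq_of_mem h hj hi hij]

/-- Commuting involutions lie in one centre. -/
theorem mem_Z_of_commute (hj : orderOf j = 2) (hi : orderOf i = 2) (hc : i * j = j * i) : i ∈ Z j :=
  (mem_Z_iff h hj).2 ⟨mem_cent_of_commute hc, by rw [← pow_two, ← hi, pow_orderOf_eq_one]⟩

/-- The centraliser of an involution is a Sylow 2-subgroup. -/
theorem cent_sylow (hj : orderOf j = 2) : ∃ P : Sylow 2 X, (P : Subgroup X) = C[j] := by
  haveI := finite h
  haveI : Fact (Nat.Prime 2) := ⟨Nat.prime_two⟩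
  refine ⟨(cent_isPGroup h hj).toSylow ?_, rfl⟩
  obtain ⟨F, _, _, _, m, hm, hF, e, rfl⟩ := exists_model h hj
  rw [cent_map hF e hm]
  show ¬ 2 ∣ ((unip hF).map (e : Cfsg.Sz F m →* X)).index
  rw [index_map_equiv]
  exact fun hd => Nat.not_even_iff_odd.2 (odd_index_unip hF hm) (even_iff_two_dvd.2 hd)

theorem exists_conj (hj : orderOf j = 2) (hi : orderOf i = 2) : ∃ g : X, g * j * g⁻¹ = i := by
  obtain ⟨F, _, _, _, m, hm, hF, e, rfl⟩ := exists_model h hj
  obtain ⟨z, rfl⟩ := e.surjective i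
  rw [e.orderOf_eq] at hi
  obtain ⟨g, hg⟩ := SzModel.conj_j₀ hF hm (z := z) (by rw [← pow_two, ← hi, pow_orderOf_eq_one])
    (fun e => by rw [e, orderOf_one] at hi; omega)
  exact ⟨e g, by rw [← map_inv, ← map_mul, ← map_mul, hg]⟩

omit h in
theorem conj_cent (g x : X) : g * x * g⁻¹ ∈ C[g * j * g⁻¹] ↔ x ∈ C[j] := by
  rw [mem_centralizer_singleton_iff, mem_centralizer_singleton_iff]
  constructor
  · intro e
    have := congrArg (fun y => g⁻¹ * y * g) e
    simpa [mul_assoc] using this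
  · intro e
    calc g * x * g⁻¹ * (g * j * g⁻¹) = g * (x * j) * g⁻¹ := by group
      _ = g * (j * x) * g⁻¹ := by rw [e]
      _ = g * j * g⁻¹ * (g * x * g⁻¹) := by group

omit h in
theorem conj_mem_Z {x : X} (g : X) (hx : x ∈ Z j) : g * x * g⁻¹ ∈ Z (g * j * g⁻¹) := by
  rw [mem_centralizer_iff] at hx ⊢
  intro y hy
  have e : g * (g⁻¹ * y * g) * g⁻¹ = y := by group
  have h1 := hx (g⁻¹ * y * g) ((conj_cent g _).1 (by rwa [e]))
  calc y * (g * x * g⁻¹) = g * ((g⁻¹ * y * g) * x) * g⁻¹ := by group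
    _ = g * (x * (g⁻¹ * y * g)) * g⁻¹ := by rw [h1]
    _ = g * x * g⁻¹ * y := by group

omit h in
theorem conj_eq_of_normalizer {g : X} (hg : C[g * j * g⁻¹] = C[j]) : g ∈ normalizer (C[j] : Set X) := by
  rw [mem_normalizer_iff]
  intro x
  conv_rhs => rw [← hg, conj_cent]

/-- The normaliser is that of the centre. -/
theorem normalizer_Z (hj : orderOf j = 2) :
    normalizer (Z j : Set X) = normalizer (C[j] : Set X) := by
  refine le_antisymm (fun g hg => ?_) (fun g hg => ?_)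
  · refine conj_eq_of_normalizer (cent_eq_of_mem h hj ?_ ?_)
    · rw [← MulAut.conj_apply, MulEquiv.orderOf_eq, hj]
    · exact (mem_normalizer_iff.1 hg _).1 (self_mem_Z h hj)
  · rw [mem_normalizer_iff] at hg ⊢
    intro x
    rw [mem_Z_iff h hj, mem_Z_iff h hj, ← hg]
    refine and_congr Iff.rfl ?_
    rw [show g * x * g⁻¹ * (g * x * g⁻¹) = g * (x * x) * g⁻¹ by group, conj_eq_one_iff]

/-- The normaliser is transitive on the involutions of the centre. -/
theorem exists_normalizer_conj (hj : orderOf j = 2) {x y : X} (hx : x ∈ Z j) (hy : y ∈ Z j)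
    (hx1 : x ≠ 1) (hy1 : y ≠ 1) : ∃ g ∈ normalizer (C[j] : Set X), g * x * g⁻¹ = y := by
  have ho : ∀ z ∈ Z j, z ≠ 1 → orderOf z = 2 := fun z hz h1 =>
    orderOf_eq_prime (by rw [pow_two]; exact ((mem_Z_iff h hj).1 hz).2) h1
  obtain ⟨g, hg⟩ := exists_conj h (ho x hx hx1) (ho y hy hy1)
  refine ⟨g, ?_, hg⟩
  have ex := cent_eq_of_mem h hj (ho x hx hx1) hx
  rw [← ex]
  refine conj_eq_of_normalizer ?_
  rw [hg, cent_eq_of_mem h hj (ho y hy hy1) hy, ex]

theorem card_normalizer (hj : orderOf j = 2) (hq : Nat.card X = q ^ 2 * (q ^ 2 + 1) * (q - 1)) :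
    Nat.card (normalizer (C[j] : Set X)) = q ^ 2 * (q - 1) := by
  obtain ⟨F, _, _, _, m, hm, hF, e, rfl⟩ := exists_model h hj
  have heq : normalizer (C[e (SzModel.j₀ hF)] : Set X) =
      (CfsgLib.Lie.Suzuki.borel F m).map e.toMonoidHom := by
    ext x
    obtain ⟨y, rfl⟩ := e.surjective x
    rw [Subgroup.mem_map_equiv, e.symm_apply_apply, mem_normalizer hF e hm]
  rw [heq, card_map_of_injective e.injective, q_eq hm hF e hq]
  exact card_stab_inf hF hm

theorem index_normalizer (hj : orderOf j = 2) (hq : Nat.card X = q ^ 2 * (q ^ 2 + 1) * (q - 1)) :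
    (normalizer (C[j] : Set X)).index = q ^ 2 + 1 := by
  haveI := finite h
  have h2 := two_le_of_order (hq ▸ Nat.card_pos)
  have hc := (normalizer (C[j] : Set X)).index_mul_card
  rw [card_normalizer h hj hq, hq] at hc
  have hpos : 0 < q ^ 2 * (q - 1) := Nat.mul_pos (Nat.pow_pos (by omega)) (by omega)
  refine Nat.eq_of_mul_eq_mul_right hpos ?_
  rw [hc]; ring

/-- The square roots of an involution form one coset of the centre. -/
theorem roots (hj : orderOf j = 2) {p p' : X} (hp : p * p = j) (hp' : p' * p' = j) :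
    p⁻¹ * p' ∈ Z j := by
  obtain ⟨F, _, _, _, m, hm, hF, e, rfl⟩ := exists_model h hj
  obtain ⟨y, rfl⟩ := e.surjective p
  obtain ⟨y', rfl⟩ := e.surjective p'
  rw [← map_inv, ← map_mul, mem_Z hF e hm]
  exact SzModel.roots hF hm (e.injective (by rw [map_mul, hp])) (e.injective (by rw [map_mul, hp']))

theorem exists_root (hj : orderOf j = 2) : ∃ p : X, p * p = j := by
  obtain ⟨F, _, _, _, m, hm, hF, e, rfl⟩ := exists_model h hj
  obtain ⟨y, hy⟩ := SzModel.exists_root hF hm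
  exact ⟨e y, by rw [← map_mul, hy]⟩

theorem root_mul (hj : orderOf j = 2) {p z : X} (hp : p * p = j) (hz : z ∈ Z j) :
    p * z * (p * z) = j := by
  have hpC : p ∈ C[j] := mem_cent_of_commute (by rw [← hp, mul_assoc])
  rw [mul_assoc, ← mul_assoc z, ← mem_centralizer_iff.1 hz p hpC, mul_assoc,
    ((mem_Z_iff h hj).1 hz).2, mul_one, hp]

/-- The centraliser of an element of the Sylow subgroup outside its centre has order `2q`. -/
theorem card_cent_of_not_mem (hj : orderOf j = 2) (hq : Nat.card X = q ^ 2 * (q ^ 2 + 1) * (q - 1))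
    {p : X} (hp : p ∈ C[j]) (hpZ : p ∉ Z j) : Nat.card C[p] = 2 * q := by
  obtain ⟨F, _, _, _, m, hm, hF, e, rfl⟩ := exists_model h hj
  obtain ⟨y, rfl⟩ := e.surjective p
  obtain ⟨a, b, rfl⟩ := (mem_cent hF e hm y).1 hp
  have ha : a ≠ 0 := fun ha => hpZ ((mem_Z hF e hm _).2 ⟨b, by rw [ha]⟩)
  have he : C[e (uS hF a b)] = (centralizer ({uS hF a b} : Set (Cfsg.Sz F m))).map e.toMonoidHom := by
    ext x
    obtain ⟨y, rfl⟩ := e.surjective x
    rw [Subgroup.mem_map_equiv, e.symm_apply_apply, mem_centralizer_singleton_iff,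
      mem_centralizer_singleton_iff, ← map_mul, ← map_mul, e.injective.eq_iff]
  rw [he, card_map_of_injective e.injective, SzModel.card_cent_uS hF hm ha, q_eq hm hF e hq]

theorem cent_le_of_mem (hj : orderOf j = 2) {p : X} (hp : p ∈ C[j]) (h1 : p ≠ 1) : C[p] ≤ C[j] := by
  obtain ⟨F, _, _, _, m, hm, hF, e, rfl⟩ := exists_model h hj
  obtain ⟨y, rfl⟩ := e.surjective p
  intro x hx
  obtain ⟨w, rfl⟩ := e.surjective x
  rw [mem_centralizer_singleton_iff, ← map_mul, ← map_mul, e.injective.eq_iff] at hx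
  obtain ⟨a, b, rfl⟩ := (mem_cent hF e hm y).1 hp
  refine (mem_cent hF e hm w).2 ?_
  exact centralizer_uS hF hm (uS_mem_uSub hF a b) (fun e1 => h1 (by rw [e1, map_one])) (Commute.symm hx)

/-- The derived group of the Sylow subgroup is its centre. -/
theorem commutator_cent (hj : orderOf j = 2) : ⁅C[j], C[j]⁆ = Z j := by
  obtain ⟨F, _, _, _, m, hm, hF, e, rfl⟩ := exists_model h hj
  rw [cent_map hF e hm, Z_map hF e hm, ← map_commutator, ← map_subtype_commutator,
    ← commutator_unip hF hm]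
  congr 1
  ext y
  rw [SzModel.cent_unip hF hm, Subgroup.mem_map]
  refine ⟨?_, ?_⟩
  · rintro ⟨w, hw, rfl⟩
    exact (center_unip hF hm w).1 hw
  · rintro ⟨b, rfl⟩
    exact ⟨⟨_, uS_mem hF 0 b⟩, (center_unip hF hm _).2 ⟨b, rfl⟩, rfl⟩

/-- The Sylow subgroups meet trivially. -/
theorem inter_eq_one (hj : orderOf j = 2) (hi : orderOf i = 2) (hij : i ∉ Z j) {x : X}
    (hxi : x ∈ C[i]) (hxj : x ∈ C[j]) : x = 1 := by
  by_contra h1
  have hii : i ∈ C[x] := mem_cent_of_commute (mem_centralizer_singleton_iff.1 hxi).symm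
  exact hij ((mem_Z_iff h hj).2 ⟨cent_le_of_mem h hj hxj h1 hii, by rw [← pow_two, ← hi, pow_orderOf_eq_one]⟩)

/-- Two involutions of different centres have product of odd order. -/
theorem odd_orderOf_mul (hj : orderOf j = 2) (hi : orderOf i = 2) (hij : i ∉ Z j) :
    Odd (orderOf (i * j)) := by
  by_contra hodd
  obtain ⟨k, hk⟩ := even_iff_two_dvd.1 (Nat.not_odd_iff_even.1 hodd)
  set d := i * j with hd
  have hii : i * i = 1 := by rw [← pow_two, ← hi, pow_orderOf_eq_one]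
  have hjj : j * j = 1 := by rw [← pow_two, ← hj, pow_orderOf_eq_one]
  have hii' : i⁻¹ = i := inv_eq_of_mul_eq_one_right hii
  have hjj' : j⁻¹ = j := inv_eq_of_mul_eq_one_right hjj
  have hw2 : d ^ k * d ^ k = 1 := by rw [← pow_add, ← two_mul, ← hk, pow_orderOf_eq_one]
  have hinv : (d ^ k)⁻¹ = d ^ k := inv_eq_of_mul_eq_one_right hw2
  have e1 : i * d ^ k * i⁻¹ = d ^ k := by
    rw [← conj_pow, ← hinv, ← inv_pow]
    congr 1
    rw [hd, mul_inv_rev, hii', hjj', ← mul_assoc i i j, hii, one_mul]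
  have e2 : j * d ^ k * j⁻¹ = d ^ k := by
    rw [← conj_pow, ← hinv, ← inv_pow]
    congr 1
    rw [hd, mul_inv_rev, hii', hjj', mul_assoc, mul_assoc, hjj, mul_one]
  have hw1 : d ^ k = 1 := inter_eq_one h hj hi hij
    (mem_cent_of_commute (mul_inv_eq_iff_eq_mul.1 e1).symm)
    (mem_cent_of_commute (mul_inv_eq_iff_eq_mul.1 e2).symm)
  haveI := finite h
  have hpos := orderOf_pos d
  have := Nat.le_of_dvd (by omega) (orderOf_dvd_of_pow_eq_one hw1)
  omega

/-- The Sylow subgroup is transitive on the cosets outside the normaliser. -/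
theorem cent_trans (hj : orderOf j = 2) {g₁ g₂ : X} (h₁ : g₁ ∉ normalizer (C[j] : Set X))
    (h₂ : g₂ ∉ normalizer (C[j] : Set X)) :
    ∃ u ∈ C[j], g₂⁻¹ * (u * g₁) ∈ normalizer (C[j] : Set X) := by
  obtain ⟨F, _, _, _, m, hm, hF, e, rfl⟩ := exists_model h hj
  obtain ⟨g₁, rfl⟩ := e.surjective g₁
  obtain ⟨g₂, rfl⟩ := e.surjective g₂
  rw [mem_normalizer hF e hm] at h₁ h₂
  obtain ⟨u, hu, hu'⟩ := SzModel.unip_trans hF hm h₁ h₂
  refine ⟨e u, (mem_cent hF e hm u).2 hu, ?_⟩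
  rw [← map_inv, ← map_mul, ← map_mul, mem_normalizer hF e hm]
  exact hu'

/-- The Sylow subgroup is semiregular on the cosets outside the normaliser. -/
theorem cent_free (hj : orderOf j = 2) {g u : X} (hg : g ∉ normalizer (C[j] : Set X))
    (hu : u ∈ C[j]) (hgu : g⁻¹ * (u * g) ∈ normalizer (C[j] : Set X)) : u = 1 := by
  obtain ⟨F, _, _, _, m, hm, hF, e, rfl⟩ := exists_model h hj
  obtain ⟨g, rfl⟩ := e.surjective g
  obtain ⟨u, rfl⟩ := e.surjective u
  rw [mem_normalizer hF e hm] at hg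
  rw [mem_cent hF e hm] at hu
  rw [← map_inv, ← map_mul, ← map_mul, mem_normalizer hF e hm] at hgu
  rw [SzModel.unip_free hF hm hg hu hgu, map_one]

theorem not_mem_normalizer_of_conj (hj : orderOf j = 2) {g : X} (hi : i = g * j * g⁻¹) (hij : i ∉ Z j) :
    g ∉ normalizer (C[j] : Set X) := by
  rw [← normalizer_Z h hj]
  exact fun hg => hij (hi ▸ (mem_normalizer_iff.1 hg _).1 (self_mem_Z h hj))

/-- The Sylow subgroup is transitive on the other centres. -/
theorem exists_move (hj : orderOf j = 2) {k : X} (hi : orderOf i = 2) (hk : orderOf k = 2)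
    (hij : i ∉ Z j) (hkj : k ∉ Z j) : ∃ u ∈ C[j], u * i * u⁻¹ ∈ Z k := by
  obtain ⟨g₁, rfl⟩ := exists_conj h hj hi
  obtain ⟨g₂, rfl⟩ := exists_conj h hj hk
  obtain ⟨u, hu, hn⟩ := cent_trans h hj (not_mem_normalizer_of_conj h hj rfl hij)
    (not_mem_normalizer_of_conj h hj rfl hkj)
  refine ⟨u, hu, ?_⟩
  rw [← normalizer_Z h hj] at hn
  have := conj_mem_Z g₂ ((mem_normalizer_iff.1 hn _).1 (self_mem_Z h hj))
  convert this using 1
  group

/-- An element of the Sylow subgroup fixing another centre is trivial. -/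
theorem eq_one_of_move (hj : orderOf j = 2) (hi : orderOf i = 2) (hij : i ∉ Z j) {u : X}
    (hu : u ∈ C[j]) (hui : u * i * u⁻¹ ∈ Z i) : u = 1 := by
  obtain ⟨g, rfl⟩ := exists_conj h hj hi
  refine cent_free h hj (not_mem_normalizer_of_conj h hj rfl hij) hu (conj_eq_of_normalizer ?_)
  refine cent_eq_of_mem h hj (by rw [← MulAut.conj_apply, MulEquiv.orderOf_eq, hj]) ?_
  have := conj_mem_Z g⁻¹ hui
  rw [show g⁻¹ * (g * j * g⁻¹) * g⁻¹⁻¹ = j by group] at this
  rwa [show g⁻¹ * (u * g) * j * (g⁻¹ * (u * g))⁻¹ = g⁻¹ * (u * (g * j * g⁻¹) * u⁻¹) * g⁻¹⁻¹ by group]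

theorem normalizer_ne_top (hj : orderOf j = 2) : normalizer (C[j] : Set X) ≠ ⊤ := by
  intro e
  haveI := finite h
  obtain ⟨q, -, -, -, -, hq⟩ := exists_q h
  have h1 := index_normalizer h hj hq
  rw [e, index_top] at h1
  have := two_le_of_order (hq ▸ Nat.card_pos)
  nlinarith

/-- Every Sylow 2-subgroup is the centraliser of an involution. -/
theorem exists_sylow_eq (P : Sylow 2 X) : ∃ k : X, orderOf k = 2 ∧ (P : Subgroup X) = C[k] := by
  haveI := finite h
  haveI : Fact (Nat.Prime 2) := ⟨Nat.prime_two⟩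
  obtain ⟨j, hj⟩ := exists_involution h
  obtain ⟨Q, hQ⟩ := cent_sylow h hj
  obtain ⟨g, rfl⟩ := MulAction.exists_smul_eq X Q P
  refine ⟨g * j * g⁻¹, by rw [← MulAut.conj_apply, MulEquiv.orderOf_eq, hj], ?_⟩
  ext x
  rw [Sylow.coe_subgroup_smul, Subgroup.mem_pointwise_smul_iff_inv_smul_mem, hQ]
  rw [show (MulAut.conj g)⁻¹ • x = g⁻¹ * x * g by simp [MulAut.smul_def], ← conj_cent g (g⁻¹ * x * g)]
  rw [show g * (g⁻¹ * x * g) * g⁻¹ = x by group]

theorem sylow_eq_cent (P : Sylow 2 X) (hj : orderOf j = 2) (hjP : j ∈ (P : Subgroup X)) :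
    (P : Subgroup X) = C[j] := by
  obtain ⟨k, hk, e⟩ := exists_sylow_eq h P
  rw [e] at hjP ⊢
  exact (cent_eq_of_mem h hk hj ((mem_Z_iff h hk).2 ⟨hjP, by rw [← pow_two, ← hj, pow_orderOf_eq_one]⟩)).symm

/-- The centre of the group is trivial. -/
theorem eq_one_of_central {x : X} (hx : ∀ y, y * x = x * y) : x = 1 := by
  obtain ⟨j, hj⟩ := exists_involution h
  obtain ⟨g, hg⟩ : ∃ g, g ∉ normalizer (C[j] : Set X) := by
    by_contra hc
    push Not at hc
    exact normalizer_ne_top h hj (eq_top_iff.2 fun g _ => hc g)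
  have hi : orderOf (g * j * g⁻¹) = 2 := by rw [← MulAut.conj_apply, MulEquiv.orderOf_eq, hj]
  exact inter_eq_one h hj hi (fun hz => hg (conj_eq_of_normalizer (cent_eq_of_mem h hj hi hz)))
    (mem_cent_of_commute (hx _).symm) (mem_cent_of_commute (hx _).symm)

theorem conj_injective : Function.Injective (MulAut.conj : X →* MulAut X) := by
  rw [injective_iff_map_eq_one]
  intro x hx
  refine eq_one_of_central h fun y => ?_
  have := DFunLike.congr_fun hx y
  rw [MulAut.conj_apply, MulAut.one_apply, mul_inv_eq_iff_eq_mul] at this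
  exact this.symm

/-- An automorphism centralising the centre of a Sylow subgroup is induced by that subgroup. -/
theorem inner_of_fix (hj : orderOf j = 2) (φ : MulAut X) (hfix : ∀ z ∈ Z j, φ z = z) :
    ∃ u ∈ C[j], φ = MulAut.conj u := by
  obtain ⟨F, _, _, _, m, hm, hF, e, rfl⟩ := exists_model h hj
  obtain ⟨u, hu, hφ⟩ := SzModel.inner_of_fix hF hm ((MulAut.congr e).symm φ) (fun b => by
    show e.symm (φ (e (uS hF 0 b))) = _
    rw [hfix _ ((mem_Z hF e hm _).2 ⟨b, rfl⟩), e.symm_apply_apply])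
  refine ⟨e u, (mem_cent hF e hm u).2 hu, MulEquiv.ext fun x => ?_⟩
  obtain ⟨y, rfl⟩ := e.surjective x
  have h1 : e.symm (φ (e y)) = u * y * u⁻¹ := DFunLike.congr_fun hφ y
  rw [MulAut.conj_apply, ← map_inv, ← map_mul, ← map_mul, ← h1, e.apply_symm_apply]

/-- The automorphisms of 2-power order are inner. -/
theorem inner_of_pow (φ : MulAut X) {k : ℕ} (hk : φ ^ 2 ^ k = 1) :
    ∃ x : X, φ = MulAut.conj x ∧ x ^ 2 ^ k = 1 := by
  obtain ⟨j, hj⟩ := exists_involution h
  obtain ⟨F, _, _, _, m, hm, hF, e, -⟩ := exists_model h hj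
  obtain ⟨u, hφ⟩ := SzModel.inner_of_pow hF hm ((MulAut.congr e).symm φ) (k := k)
    (by rw [← map_pow, hk, map_one])
  have hx : φ = MulAut.conj (e u) := MulEquiv.ext fun x => by
    obtain ⟨y, rfl⟩ := e.surjective x
    have h1 : e.symm (φ (e y)) = u * y * u⁻¹ := DFunLike.congr_fun hφ y
    rw [MulAut.conj_apply, ← map_inv, ← map_mul, ← map_mul, ← h1, e.apply_symm_apply]
  exact ⟨e u, hx, conj_injective h (by rw [map_pow, map_one, ← hx, hk])⟩

/-- A 2-element normalising a Sylow subgroup lies in it. -/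
theorem mem_cent_of_normalizer (hj : orderOf j = 2) {x : X} {k : ℕ} (hx : x ^ 2 ^ k = 1)
    (hn : x ∈ normalizer (C[j] : Set X)) : x ∈ C[j] := by
  haveI := finite h
  haveI : Fact (Nat.Prime 2) := ⟨Nat.prime_two⟩
  obtain ⟨P, hP⟩ := cent_sylow h hj
  have hz : IsPGroup 2 (zpowers x) := IsPGroup.of_card_dvd_pow (n := k) (by
    rw [Nat.card_zpowers]; exact orderOf_dvd_of_pow_eq_one hx)
  have h1 : IsPGroup 2 ↥(zpowers x ⊔ C[j]) :=
    hz.to_sup_of_normal_right' (cent_isPGroup h hj) (zpowers_le.2 hn)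
  have h2 := P.is_maximal' h1 (hP.le.trans le_sup_right)
  rw [← hP, ← h2]
  exact mem_sup_left (mem_zpowers x)

/-- An automorphism of 2-power order fixing two Sylow subgroups is trivial. -/
theorem eq_one_of_fix_two (hj : orderOf j = 2) (hi : orderOf i = 2) (hij : i ∉ Z j) (φ : MulAut X)
    {k : ℕ} (hk : φ ^ 2 ^ k = 1) (hφj : φ j ∈ Z j) (hφi : φ i ∈ Z i) : φ = 1 := by
  obtain ⟨x, rfl, hx⟩ := inner_of_pow h φ hk
  have hn : x ∈ normalizer (C[j] : Set X) :=
    conj_eq_of_normalizer (cent_eq_of_mem h hj (by rw [← MulAut.conj_apply, MulEquiv.orderOf_eq, hj]) hφj)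
  rw [eq_one_of_move h hj hi hij (mem_cent_of_normalizer h hj hx hn) hφi, map_one]

end CfsgLib.ThreePrime.Sz
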