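import Cfsg.Agent.Lib.ThreePrime.Sz.Facts
import Cfsg.Agent.Lib.Core.Cores
import Cfsg.Prelude.Def_Balance

/-!
Owner: helper10. The Suzuki groups are locally balanced.
-/

set_option autoImplicit false
set_option linter.style.haveILetI false

namespace CfsgLib.ThreePrime.Sz

open Subgroup

universe u

/-- The Suzuki groups are locally balanced. -/
theorem isLocallyBalanced (X : Type u) [Group X] (h : Cfsg.Lie.IsoSuzuki X) :
    Cfsg.IsLocallyBalanced X := by
  haveI := finite h
  haveI : Fact (Nat.Prime 2) := ⟨Nat.prime_two⟩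
  intro H hInn x hx
  have hx2 : (x : MulAut X) ^ 2 ^ 1 = 1 := by
    rw [pow_one, ← SubmonoidClass.coe_pow, ← hx, pow_orderOf_eq_one, OneMemClass.coe_one]
  obtain ⟨j, hxj, hj2⟩ := inner_of_pow h _ hx2
  rw [pow_one, pow_two] at hj2
  have hj : orderOf j = 2 := orderOf_eq_prime (by rw [pow_two, hj2]) fun e => by
    rw [e, map_one, ← OneMemClass.coe_one H, Subtype.coe_inj] at hxj
    rw [hxj, orderOf_one] at hx
    omega
  set C := centralizer ({x} : Set H) with hC
  suffices hcore : Cfsg.pPrimeCore 2 C = ⊥ by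
    rw [Cfsg.centralizerPPrimeCore, hcore, Subgroup.map_bot]
  haveI : (Cfsg.pPrimeCore 2 C).Normal := inferInstance
  have hodd := CfsgLib.Core.coprime_card_pPrimeCore 2 C
  rw [eq_bot_iff]
  intro o ho
  set φ : MulAut X := ((o : H) : MulAut X) with hφ
  have hone : ∀ w : C, w ∈ Cfsg.pPrimeCore 2 C → ∀ p ∈ Subgroup.centralizer ({j} : Set X),
      ((w : H) : MulAut X) = MulAut.conj p → p = 1 := by
    intro w hw p hp hwp
    obtain ⟨k, hk⟩ := (cent_isPGroup h hj) ⟨p, hp⟩
    have hk' : p ^ 2 ^ k = 1 := by simpa using congrArg Subtype.val hk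
    have h1 : w ^ 2 ^ k = 1 := by
      apply Subtype.ext; apply Subtype.ext
      show ((w : H) : MulAut X) ^ 2 ^ k = 1
      rw [hwp, ← map_pow, hk', map_one]
    have h2 : orderOf w ∣ Nat.card (Cfsg.pPrimeCore 2 C) := by
      rw [← Subgroup.orderOf_mk w hw]; exact orderOf_dvd_natCard _
    have h3 : orderOf w = 1 := Nat.eq_one_of_dvd_coprimes (Nat.Coprime.pow_right k hodd) h2
      (orderOf_dvd_of_pow_eq_one h1)
    rw [orderOf_eq_one_iff] at h3
    refine conj_injective h ?_
    rw [← hwp, h3, map_one]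
    rfl
  have hcomm : φ * MulAut.conj j = MulAut.conj j * φ := by
    rw [← hxj]
    exact congrArg Subtype.val (mem_centralizer_singleton_iff.1 o.2)
  have hconj : ∀ p : X, φ * MulAut.conj p * φ⁻¹ = MulAut.conj (φ p) := fun p => MulEquiv.ext fun y => by
    show φ (p * φ⁻¹ y * p⁻¹) = φ p * y * (φ p)⁻¹
    rw [map_mul, map_mul, map_inv, MulAut.apply_inv_self]
  have hφj : φ j = j := conj_injective h (by rw [← hconj, hcomm, mul_inv_cancel_right])
  have hcent : ∀ p ∈ Subgroup.centralizer ({j} : Set X), φ p = p := by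
    intro p hp
    have hφp : φ p ∈ Subgroup.centralizer ({j} : Set X) := by
      rw [mem_centralizer_singleton_iff] at hp ⊢
      calc φ p * j = φ (p * j) := by rw [map_mul, hφj]
        _ = φ (j * p) := by rw [hp]
        _ = j * φ p := by rw [map_mul, hφj]
    -- the inner automorphism of `p` centralises `x`
    have hpx : (⟨MulAut.conj p, hInn ⟨p, rfl⟩⟩ : H) ∈ C := by
      rw [hC, mem_centralizer_singleton_iff]
      apply Subtype.ext
      show MulAut.conj p * (x : MulAut X) = (x : MulAut X) * MulAut.conj p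
      rw [hxj, ← map_mul, ← map_mul, mem_centralizer_singleton_iff.1 hp]
    set cp : C := ⟨⟨MulAut.conj p, hInn ⟨p, rfl⟩⟩, hpx⟩ with hcp
    have hw : o * cp * o⁻¹ * cp⁻¹ ∈ Cfsg.pPrimeCore 2 C := by
      rw [mul_assoc, mul_assoc]
      exact mul_mem ho (by
        have := (inferInstance : (Cfsg.pPrimeCore 2 C).Normal).conj_mem _ (inv_mem ho) cp
        simpa [mul_assoc] using this)
    have := hone _ hw (φ p * p⁻¹) (mul_mem hφp (inv_mem hp)) (by
      rw [map_mul, map_inv, ← hconj]
      rfl)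
    rwa [mul_inv_eq_one] at this
  obtain ⟨u, hu, hφu⟩ := inner_of_fix h hj φ fun z hz => hcent z (Z_le_cent h hj hz)
  have hu1 := hone o ho u hu hφu
  rw [Subgroup.mem_bot]
  apply Subtype.ext; apply Subtype.ext
  show φ = 1
  rw [hφu, hu1, map_one]

end CfsgLib.ThreePrime.Sz
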