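import Cfsg.Agent.Lib.Known.SuzukiAut
import Cfsg.Agent.Lib.Lie.Suzuki.Fix
import Cfsg.Agent.Lib.Lie.Suzuki.Structure
import Cfsg.Agent.Lib.Lie.Suzuki.TwoCount
import Cfsg.Agent.S0333
import Cfsg.Prelude.Def_Sz

/-!
Owner: helper10. Facts about the Suzuki groups in the model, for the simple groups of order prime to three.
-/

set_option autoImplicit false

namespace CfsgLib.ThreePrime.SzModel

open CfsgLib.Lie.Suzuki CfsgLib.Known.SuzukiAut

universe u

variable {F : Type u} [Field F] [Fintype F] [CharP F 2] {m : ℕ} (hF : Fintype.card F = 2 ^ (2 * m + 1))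

local notation "P∞" => pt F m none
local notation "B∞" => CfsgLib.Lie.Suzuki.borel F m
local notation "P₀" => pt F m (some ((0 : F), (0 : F)))

/-- The distinguished involution. -/
abbrev j₀ : Cfsg.Sz F m := uS hF 0 1

theorem uS_zero_sq (b : F) : uS hF 0 b * uS hF 0 b = 1 := by
  rw [← pow_two, involution_uS_iff]

theorem j₀_ne : j₀ hF ≠ 1 := fun e => one_ne_zero ((uS_eq_one_iff hF).1 e).2

include hF in
/-- All involutions are conjugate. -/
theorem conj_j₀ (hm : 1 ≤ m) {z : Cfsg.Sz F m} (hz : z * z = 1) (h1 : z ≠ 1) :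
    ∃ g, g * j₀ hF * g⁻¹ = z := by
  obtain ⟨p, hp, -⟩ := involution_fix hF hm (by rw [pow_two]; exact hz) h1
  haveI := pretransitive hF
  obtain ⟨h, rfl⟩ := MulAction.exists_smul_eq (Cfsg.Sz F m) P∞ p
  have hfix : (h⁻¹ * z * h) • P∞ = P∞ := by rw [mul_smul, mul_smul, hp, inv_smul_smul]
  obtain ⟨a, b, t, e⟩ := stab_inf hF hm hfix
  have h2 : (h⁻¹ * z * h) * (h⁻¹ * z * h) = 1 := by
    calc _ = h⁻¹ * (z * z) * h := by group
      _ = 1 := by rw [hz]; group
  -- the torus part is trivial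
  have h3 : uS hF a b * (tS hF t * uS hF a b * (tS hF t)⁻¹) * tS hF (t * t) = 1 := by
    rw [e] at h2; rw [map_mul, ← h2]; group
  rw [conj_uS, uS_mul] at h3
  have ht : t * t = 1 := (uS_tS_inj hF (a' := 0) (b' := 0) (t' := 1)
    (h3.trans (by rw [uS_zero_zero, map_one, mul_one]))).2.2
  have ht1 : t = 1 := Units.ext (frobenius_inj F 2 (by
    simpa [frobenius_def, pow_two] using congrArg Units.val ht))
  subst ht1
  rw [map_one, mul_one] at e
  have ha : a = 0 := (involution_uS_iff hF).1 (by rw [pow_two, ← e, h2])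
  subst ha
  have hb : b ≠ 0 := fun hb => h1 (by
    subst hb; rw [uS_zero_zero] at e
    calc z = h * (h⁻¹ * z * h) * h⁻¹ := by group
      _ = 1 := by rw [e]; group)
  obtain ⟨s, hs⟩ := th_unit_surjective (m := m) b hb
  refine ⟨h * tS hF s, ?_⟩
  calc h * tS hF s * uS hF 0 1 * (h * tS hF s)⁻¹
      = h * (tS hF s * uS hF 0 1 * (tS hF s)⁻¹) * h⁻¹ := by group
    _ = h * (h⁻¹ * z * h) * h⁻¹ := by rw [conj_uS, mul_zero, mul_one, hs, e]
    _ = z := by group

theorem cent_j₀ (hm : 1 ≤ m) : Subgroup.centralizer ({j₀ hF} : Set (Cfsg.Sz F m)) = unip hF := by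
  ext y
  rw [Subgroup.mem_centralizer_singleton_iff]
  refine ⟨fun h => ?_, ?_⟩
  · exact centralizer_uS hF hm (uS_mem_uSub hF 0 1) (j₀_ne hF) (Commute.symm h)
  · rintro ⟨a, b, rfl⟩
    exact (uS_comm_zero hF a b 1).symm

/-- The centre of the unipotent group. -/
theorem cent_unip (hm : 1 ≤ m) (y : Cfsg.Sz F m) :
    y ∈ Subgroup.centralizer (unip hF : Set (Cfsg.Sz F m)) ↔ ∃ b, y = uS hF 0 b := by
  refine ⟨fun h => ?_, ?_⟩
  · have hy : y ∈ unip hF := by
      rw [← cent_j₀ hF hm, Subgroup.mem_centralizer_singleton_iff]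
      exact (Subgroup.mem_centralizer_iff.1 h _ (uS_mem hF 0 1)).symm
    exact (center_unip hF hm ⟨y, hy⟩).1 (Subgroup.mem_center_iff.2 fun x =>
      Subtype.ext (Subgroup.mem_centralizer_iff.1 h _ x.2))
  · rintro ⟨b, rfl⟩
    rw [Subgroup.mem_centralizer_iff]
    rintro _ ⟨a, c, rfl⟩
    exact (uS_comm_zero hF a c b).symm

theorem card_cent_unip (hm : 1 ≤ m) :
    Nat.card (Subgroup.centralizer (unip hF : Set (Cfsg.Sz F m))) = Fintype.card F := by
  rw [← Nat.card_eq_fintype_card]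
  refine (Nat.card_eq_of_bijective (fun b : F =>
    (⟨uS hF 0 b, (cent_unip hF hm _).2 ⟨b, rfl⟩⟩ :
      Subgroup.centralizer (unip hF : Set (Cfsg.Sz F m)))) ⟨?_, ?_⟩).symm
  · exact fun b c e => (uS_inj hF (congrArg Subtype.val e)).2
  · rintro ⟨y, hy⟩
    obtain ⟨b, rfl⟩ := (cent_unip hF hm y).1 hy
    exact ⟨b, rfl⟩

/-- An element of the unipotent group outside its centre has a centraliser of order twice the field. -/
theorem card_cent_uS (hm : 1 ≤ m) {a b : F} (ha : a ≠ 0) :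
    Nat.card (Subgroup.centralizer ({uS hF a b} : Set (Cfsg.Sz F m))) = 2 * Fintype.card F := by
  have hmem : ∀ y : Cfsg.Sz F m, y ∈ Subgroup.centralizer ({uS hF a b} : Set (Cfsg.Sz F m)) ↔
      ∃ c d, (c = 0 ∨ c = a) ∧ y = uS hF c d := by
    intro y
    rw [Subgroup.mem_centralizer_singleton_iff]
    refine ⟨fun h => ?_, ?_⟩
    · obtain ⟨c, d, rfl⟩ := centralizer_uS hF hm (uS_mem_uSub hF a b)
        (fun e => ha ((uS_eq_one_iff hF).1 e).1) (Commute.symm h)
      refine ⟨c, d, ?_, rfl⟩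
      rw [uS_mul, uS_mul] at h
      have e := (uS_inj hF h).2
      have h2 : (2 : F) = 0 := CharTwo.two_eq_zero
      have key : th F m c * a = th F m a * c := by grind
      rcases eq_or_ne c 0 with hc | hc
      · exact Or.inl hc
      · refine Or.inr ?_
        have hk : th F m (c / a) = c / a := by
          rw [map_div₀, div_eq_div_iff (θ_ne_zero ha) ha, key, mul_comm]
        have hk2 := congrArg (th F m) hk
        rw [th_tits hF, hk, sq] at hk2
        have : c / a = 1 := mul_left_cancel₀ (div_ne_zero hc ha) (by rw [mul_one]; exact hk2)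
        exact (div_eq_one_iff_eq ha).1 this
    · rintro ⟨c, d, hc | hc, rfl⟩
      · subst hc
        exact uS_comm_zero hF a b d
      · subst hc
        rw [uS_mul, uS_mul]
        congr 1
        ring
  classical
  let f : Bool × F → Subgroup.centralizer ({uS hF a b} : Set (Cfsg.Sz F m)) := fun p =>
    ⟨uS hF (if p.1 then a else 0) p.2, (hmem _).2 ⟨_, _, by rcases p.1 <;> simp, rfl⟩⟩
  have hf : Function.Bijective f := by
    refine ⟨fun p r e => ?_, fun y => ?_⟩
    · obtain ⟨e1, e2⟩ := uS_inj hF (congrArg Subtype.val e)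
      refine Prod.ext ?_ e2
      rcases p with ⟨_ | _, _⟩ <;> rcases r with ⟨_ | _, _⟩
      · rfl
      · exact absurd e1.symm (by simpa using ha)
      · exact absurd e1 (by simpa using ha)
      · rfl
    · obtain ⟨c, d, hc | hc, e⟩ := (hmem y.1).1 y.2
      · exact ⟨(false, d), Subtype.ext (by simp [f, e, hc])⟩
      · exact ⟨(true, d), Subtype.ext (by simp [f, e, hc])⟩
  rw [← Nat.card_eq_of_bijective f hf, Nat.card_prod]
  simp

/-- The square roots of an involution of the centre form one coset. -/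
theorem roots (hm : 1 ≤ m) {y y' : Cfsg.Sz F m} (hy : y * y = j₀ hF) (hy' : y' * y' = j₀ hF) :
    ∃ b, y⁻¹ * y' = uS hF 0 b := by
  have hmem : ∀ y : Cfsg.Sz F m, y * y = j₀ hF → ∃ a b, y = uS hF a b ∧ th F m a * a = 1 := by
    intro y hy
    have : y ∈ Subgroup.centralizer ({j₀ hF} : Set (Cfsg.Sz F m)) := by
      rw [Subgroup.mem_centralizer_singleton_iff, ← hy, mul_assoc]
    rw [cent_j₀ hF hm] at this
    obtain ⟨a, b, rfl⟩ := this
    rw [← pow_two, uS_sq] at hy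
    exact ⟨a, b, rfl, (uS_inj hF hy).2⟩
  obtain ⟨a, b, rfl, ha⟩ := hmem y hy
  obtain ⟨c, d, rfl, hc⟩ := hmem y' hy'
  have hac : a = c := by
    have e : th F m a * a = th F m c * c := ha.trans hc.symm
    have e2 := congrArg (th F m) e
    rw [map_mul, map_mul, th_tits hF, th_tits hF] at e2
    have : a * (th F m a * a) = c * (th F m c * c) := by linear_combination e2
    rwa [ha, hc, mul_one, mul_one] at this
  subst hac
  rw [uS_inv, uS_mul, CharTwo.add_self_eq_zero]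
  exact ⟨_, rfl⟩

include hF in
theorem exists_root (hm : 1 ≤ m) : ∃ y : Cfsg.Sz F m, y * y = j₀ hF := by
  refine ⟨uS hF 1 0, ?_⟩
  rw [← pow_two, uS_sq, map_one, mul_one]

/-- A conjugate of the unipotent group meets it trivially. -/
theorem unip_inter (hm : 1 ≤ m) {g : Cfsg.Sz F m} (hg : g ∉ B∞) {w : Cfsg.Sz F m}
    (hw : w ∈ unip hF) (hw' : g⁻¹ * w * g ∈ unip hF) : w = 1 := by
  by_contra h1
  apply hg
  have hfix : w • (g • P∞) = g • P∞ := by
    have := unip_le_borel hF hw'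
    rwa [CfsgLib.Lie.Suzuki.borel, MulAction.mem_stabilizer_iff, mul_smul, mul_smul, inv_smul_eq_iff] at this
  obtain ⟨a, b, rfl⟩ := hw
  exact uSub_unique_fix hF (uS_mem_uSub hF a b) h1 hfix

/-- The unipotent group is regular on the other points. -/
theorem unip_trans (hm : 1 ≤ m) {g₁ g₂ : Cfsg.Sz F m} (h₁ : g₁ ∉ B∞) (h₂ : g₂ ∉ B∞) :
    ∃ u ∈ unip hF, g₂⁻¹ * (u * g₁) ∈ B∞ := by
  have key : ∀ g : Cfsg.Sz F m, g ∉ B∞ → ∃ u ∈ unip hF, u • P₀ = g • P∞ := by
    intro g hg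
    obtain ⟨_ | ⟨a, b⟩, e⟩ := (pt F m).surjective (g • P∞)
    · exact absurd e.symm hg
    · exact ⟨_, uS_mem hF a b, by rw [uS_zero, e]⟩
  obtain ⟨u₁, hu₁, e₁⟩ := key g₁ h₁
  obtain ⟨u₂, hu₂, e₂⟩ := key g₂ h₂
  refine ⟨u₂ * u₁⁻¹, mul_mem hu₂ (inv_mem hu₁), ?_⟩
  rw [CfsgLib.Lie.Suzuki.borel, MulAction.mem_stabilizer_iff, mul_smul, mul_smul, mul_smul, ← e₁, inv_smul_smul, e₂,
    inv_smul_smul]

theorem unip_free (hm : 1 ≤ m) {g u : Cfsg.Sz F m} (hg : g ∉ B∞) (hu : u ∈ unip hF)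
    (h : g⁻¹ * (u * g) ∈ B∞) : u = 1 := by
  by_contra h1
  rw [CfsgLib.Lie.Suzuki.borel, MulAction.mem_stabilizer_iff, mul_smul, mul_smul, inv_smul_eq_iff] at h
  obtain ⟨a, b, rfl⟩ := hu
  exact hg (uSub_unique_fix hF (uS_mem_uSub hF a b) h1 h)

include hF in
/-- An automorphism centralising the centre of the unipotent group is an inner one by that group. -/
theorem inner_of_fix (hm : 1 ≤ m) (φ : MulAut (Cfsg.Sz F m)) (h : ∀ b, φ (uS hF 0 b) = uS hF 0 b) :
    ∃ u ∈ unip hF, φ = MulAut.conj u := by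
  obtain ⟨γ, g, rfl⟩ := exists_inner_field hF hm φ
  have hg : ∀ b, g * uS hF 0 (γ b) * g⁻¹ = uS hF 0 b := fun b => by
    have := h b
    rwa [MulAut.mul_apply, fa_uS, map_zero, MulAut.conj_apply] at this
  have hgU : g ∈ unip hF := by
    rw [← cent_j₀ hF hm, Subgroup.mem_centralizer_singleton_iff, j₀]
    have := hg 1
    rwa [map_one, mul_inv_eq_iff_eq_mul] at this
  have hγ : γ = RingEquiv.refl F := by
    ext b
    obtain ⟨a, c, rfl⟩ := hgU
    have := hg b
    rw [← uS_comm_zero, mul_inv_cancel_right] at this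
    exact (uS_inj hF this).2
  subst hγ
  refine ⟨g, hgU, ?_⟩
  have : fa (m := m) (RingEquiv.refl F) = 1 := faHom.map_one
  rw [this, mul_one]

include hF in
/-- The outer automorphisms have odd order. -/
theorem inner_of_pow (hm : 1 ≤ m) (φ : MulAut (Cfsg.Sz F m)) {k : ℕ} (h : φ ^ 2 ^ k = 1) :
    ∃ x, φ = MulAut.conj x := by
  have h1 : orderOf (QuotientGroup.mk' (Cfsg.Inn (Cfsg.Sz F m)) φ) ∣ 2 * m + 1 :=
    card_out hF hm ▸ orderOf_dvd_natCard _
  have h2 : orderOf (QuotientGroup.mk' (Cfsg.Inn (Cfsg.Sz F m)) φ) ∣ 2 ^ k :=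
    orderOf_dvd_of_pow_eq_one (by rw [← map_pow, h, map_one])
  have h3 := Nat.eq_one_of_dvd_coprimes
    (Nat.Coprime.pow_left k (Nat.coprime_two_left.2 ⟨m, rfl⟩)) h2 h1
  rw [orderOf_eq_one_iff, QuotientGroup.mk'_apply, QuotientGroup.eq_one_iff] at h3
  obtain ⟨x, hx⟩ := h3
  exact ⟨x, hx.symm⟩

include hF in
theorem exists_big (hm : 1 ≤ m) : ∃ x : Cfsg.Sz F m, Fintype.card F < orderOf x := by
  obtain ⟨U, hU, hc, -⟩ := Cfsg.Agent.S0333.result hm hF _ (Or.inl rfl)
  obtain ⟨g, hg⟩ := hU.exists_ofOrder_eq_natCard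
  refine ⟨g.1, ?_⟩
  rw [Subgroup.orderOf_coe, hg, hc, hF]
  exact Nat.lt_add_right _ (Nat.lt_add_of_pos_right (by positivity))

end CfsgLib.ThreePrime.SzModel
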